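import Cfsg.Agent.SporadicStructure.PermChain

/-!
# TwoF XL-U43: the affine actions of `A₆` on `𝔽₃⁴`, finite checks (helper87)

Vectors are numbers below `81`; `al` is the action of `x` (letter `3`), `be d` the action of `y` with translation `d`.
-/

set_option autoImplicit false
set_option maxRecDepth 100000

namespace Cfsg.Agent.TwoF.XL.U43

open Cfsg.Agent.SporadicStructure.PermChain

def cd (a b c d : ℕ) : ℕ := a + 3 * b + 9 * c + 27 * d
def al (m : ℕ) : ℕ := cd (m / 3 % 3) (m / 9 % 3) (m / 27 % 3) (2 * (m % 3 + m / 3 % 3 + m / 9 % 3 + m / 27 % 3) % 3)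
def be (d m : ℕ) : ℕ := cd ((m % 3 + d % 3) % 3) ((m / 3 % 3 + d / 3 % 3) % 3) ((m / 9 % 3 + m / 27 % 3 + d / 9 % 3) % 3)
  ((m % 3 + 2 * (m / 3 % 3) + m / 27 % 3 + d / 27 % 3) % 3)
def ng (m : ℕ) : ℕ := cd (2 * (m % 3) % 3) (2 * (m / 3 % 3) % 3) (2 * (m / 9 % 3) % 3) (2 * (m / 27 % 3) % 3)
def ip (g m : ℕ) : ℕ := g % 3 * (m % 3) + g / 3 % 3 * (m / 3 % 3) + g / 9 % 3 * (m / 9 % 3) + g / 27 % 3 * (m / 27 % 3)
def nz (m : ℕ) : ℕ := bif Nat.beq m 0 then 0 else 1

section dig
variable {a b c d : ℕ} (ha : a < 3) (hb : b < 3) (hc : c < 3) (hd : d < 3)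
include ha in
theorem cd0 : cd a b c d % 3 = a := by unfold cd; omega
include ha hb in
theorem cd1 : cd a b c d / 3 % 3 = b := by unfold cd; omega
include ha hb hc in
theorem cd2 : cd a b c d / 9 % 3 = c := by unfold cd; omega
include ha hb hc hd
theorem cd3 : cd a b c d / 27 % 3 = d := by unfold cd; omega
theorem cd_lt : cd a b c d < 81 := by unfold cd; omega
end dig

theorem nz_eq (m : ℕ) : nz m = if m = 0 then 0 else 1 := by
  cases m <;> rfl

/-- the action of a word -/
def act (d : ℕ) : List ℕ → ℕ → ℕ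
  | [], m => m
  | s :: l, m => force (act d l m) fun n => bif Nat.beq s 3 then al n else be d n

/-- the sum over an orbit of `x` -/
def s5 (f : ℕ → ℕ) (m : ℕ) : ℕ :=
  force (al m) fun m1 => force (al m1) fun m2 => force (al m2) fun m3 => force (al m3) fun m4 =>
    f m + f m1 + f m2 + f m3 + f m4

theorem s5_eq (f : ℕ → ℕ) (m : ℕ) :
    s5 f m = f m + f (al m) + f (al (al m)) + f (al (al (al m))) + f (al (al (al (al m)))) := by
  simp only [s5, force_eq]

def rel : List ℕ := [3, 3, 3, 4, 3, 4, 4, 3, 3, 3, 3, 4, 3, 4, 4, 3]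
def wa : List ℕ := [4, 4, 3, 4, 3, 3, 4, 3, 4]
def wb : List ℕ := [4, 3, 4, 3]
def wc : List ℕ := [3, 4, 3, 3, 4, 3]
def D9 : List ℕ := [0, 17, 22, 27, 44, 49, 54, 71, 76]

theorem chkRel : allBelow (fun d => D9.any (Nat.beq d) || allBelow (fun m => !(Nat.beq (act d rel m) m)) 81) 81 = true := by
  decide +kernel

theorem mem_D9 {d m : ℕ} (hd : d < 81) (hm : m < 81) (h : act d rel m = m) : d ∈ D9 := by
  have e := allBelow_spec _ _ chkRel d hd
  rw [Bool.or_eq_true] at e
  rcases e with e | e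
  · obtain ⟨a, ha, e⟩ := List.any_eq_true.1 e
    exact Nat.eq_of_beq_eq_true e ▸ ha
  · have := allBelow_spec _ _ e m hm
    rw [h, Nat.beq_refl] at this
    exact absurd this (by decide)

def XT : List ℕ := [0x1bffd71f71c203e000400fef9c7fc5138e00a200077cfff80f9e38018200037ffae3ee38407c000801fdf38ff8a271c0144000ef9fff01f3c7003040006fff5c7dc7080f8001003fbe71ff144e380288001df3ffe03e78e00608000,
  0x1fffdfdf7fee67eac2400fffdefffd77af9eb20007fefffbefbfbd95e20803fffef7effb797cd0a801fff7bfffbb79ee95c000ffbfffddfbef64ba46006ffffdffdfeacfa585003fbffdffdfce7b2ea8401dfffff6fe7ff9668a800,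
  0x1ffffffdef2e24e66e0c8fffffff7e74a4be1c8c87fffffff5b5a49ccc8d83ffffffebcba92b93a321ffffffdfb9a927a3a160fffffffded2927a362647ffffffaface48eccc583ffffffeeee849ec78191fffffffeb4b497899990]
def HT : List ℕ := [0xa294a5294a5514a5294a5294a5294a528005294a5294a5294a5294a5514a5294a5294a5294052814529405280a529405294a07bdef7bdef7be8f7bdef7bdef7be8fa3caf7bdefa3de07bdef53def7bdef7bdef7bdef7a9ef7bdef7bdef7bdef7bdea7bdef7a94a5294a5294a5294a5294a5294a5294a5294a5294f529595294f5294f5280f2a94a5294a5294f5294a528aa5294a5294a528a52d0a5294a5294a5294a5294a0294a501545294a52a8a5294a5294a5294a5294a52a8a5294a529545294a529545280a5294af7bdef7bdef7bdefa3def7bdef7d1ef7bdef7bd4f7bdef7bdef7bdef7bdef7bdef2d1ef7bdea7bdef7bdef7bd4f53def7bde07bdef7bdef7bdef7bdef7bdefa51ef7a9ef7bdefa3def7bdefcbdef03def795e07bdef7bdef7bdef7bdea7bdef7bdef7bdef794a5294a5294a0294a5514a5294a5028a5a14a5294a5294a5294a5294a5280a529405294a5294a551405294a5294a5294aa281ef7bdef7bdef7bdef7bdef7a9ef7bdef7bdf4529efa01ef7bdef7bdef7bdef7bd4f7bdef7a9ef7bdef7bdef7bdef7bdef7a8a5294a5294a5295452bd45294a529405294a5294a5294a52d0af294a5294a5294a0294a5294aa294a5294a5294a5294a5294a5,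
  0xa294a5294a5794a5294a5294a5294a528005294a5294a5294a529405514a5294a5294a5514a5294a5294a52a8a5294a5294a05294a5294a5294a5294a5294a529ea5280a5294aa29405294a7a94a5294a5294a5294a7a9ea5294a5294a5294a5294a5154a5294a5294a5294a5294a5294a5294a528aa5294a5294a52954529595280a5280f7a94a5294a529545294a5280a5294a5294a5294a5514a5294a53d4a5294a5294a529452a94a5294a5294a5294a5294a5294a5294a53d4a5294a529ea5294a7a9ea5014a5294a5294a5154a5294aa294a5294a5514a5294a529ea5294a5294f5514a5294a5294a2bd4a5294a5294a5294a528aa5294a515405294a5294a5294a5294a5294aa294a53d4a5294a7a94a52945a29450294a53d405294a5294a5294a529455294a5294a5294a5294a5294a7a94f5294a5294a5294a2a94aa294a5294a5294a5294a5294a5154a5280a5294a5294aca8aa5294a5294a5294f5294a5294a5294a5294a5294a5294a5294a5294f7bd4a7814a7a94a5294a5294a528aa529eaa294a5294a5294a5294a5294a528a5514a5294aa295452d145294a529405294a5294a5294a52bcaa294a5294a5294aa014a5294a5294a5294a5294a5294a5294a5,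
  0xa294a5295e5a14a5294a5294a5294a528005294a5294a5294a529405514a5294a5294a5015452a945294052a8a5294a5294a55294a5294a528aa5294a5294a5294aa294a5294a7a9405294a7a94a5294a529405294a2fa8a5294a5294a5294a5294f5014a5294a5294a5514a5294a5294a5294a5280a5294a529545294a5295e5280a5294a7a94a5294a529545294a5280a5294a5294a5294a5514a5294a53d4a528aa52945529407a9ea5294a5154a5294a5294a5294a5294a5294a5294a529ea5294a2aa8a5014a5294a5294a5154a5294a7a94a5294a53d4a5294a52a8a5294a5295453d4a5294a5294a0514a529545294a7a94a5294aa294a515455294a5294a7a94a5294a5294a7a94a53d4a5294a5294a52940ca9402a94a53d452a94a5294a5294a529455294a5294a5294a5294a528aa529455294fa294a5294a53d4aa294a5294a5294a5294a5294a5014a5280a5294a5294aca94a5154a5294a5294f529ef7bdef7bdef7bdef7bdef7e5ef7bdef7bdf4a51efa15ef7bdefa3def7bdef7bc0f7be8fcd1ef7bdef7bdef7bdef7bdef7a945794a52954f295452d145294a529405294a5294a5294a52a8a0294a5294a5294aa014a5294aa294a5294a5294a5294a5294a5]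

/-- the chosen sets of weights -/
def X (j d m : ℕ) : Bool := Nat.testBit (XT.getD j 0) (81 * (d % 3 + 3 * (d / 27)) + m)
/-- the potentials -/
def H (j d m : ℕ) : ℕ := look 5 (HT.getD j 0) (81 * (d % 3 + 3 * (d / 27)) + m)
def xi (j d m : ℕ) : ℕ := bif X j d m then 1 else 0

def chkLb (j c : ℕ) (ws : List (List ℕ)) : Bool :=
  D9.all fun d => allBelow (fun m => (!(X j d m) || ws.any fun w => !(X j d (act d w m))) &&
    Nat.ble (s5 (fun m => c * nz m + H j d m) m) (s5 (fun m => 5 * xi j d m + H j d (be d m)) m)) 81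

theorem chkLb0 : chkLb 0 2 [wb] = true := by decide +kernel
theorem chkLb1 : chkLb 1 3 [wa, wb, wa ++ wb] = true := by decide +kernel
theorem chkLb2 : chkLb 2 3 [wa, wc, wa ++ wc] = true := by decide +kernel

theorem chkLb_spec {j c : ℕ} {ws : List (List ℕ)} (h : chkLb j c ws = true) {d m : ℕ} (hd : d ∈ D9) (hm : m < 81) :
    (X j d m = true → ∃ w ∈ ws, X j d (act d w m) = false) ∧
      s5 (fun m => c * nz m + H j d m) m ≤ s5 (fun m => 5 * xi j d m + H j d (be d m)) m := by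
  have e := allBelow_spec _ _ (List.all_eq_true.1 h d hd) m hm
  rw [Bool.and_eq_true, Bool.or_eq_true, Bool.not_eq_true', List.any_eq_true] at e
  refine ⟨fun hx => ?_, Nat.le_of_ble_eq_true e.2⟩
  rcases e.1 with e | ⟨w, hw, e⟩
  · rw [hx] at e; exact Bool.noConfusion e
  · exact ⟨w, hw, by simpa using e⟩

/-! ### the group of order ten -/

def gm (m : ℕ) : ℕ := force (al m) ng

theorem gm_eq (m : ℕ) : gm m = ng (al m) := force_eq _ _

/-- `x` followed by the Galois automorphism -/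
def gam (l : ℕ × ℕ) : ℕ × ℕ := (ng l.1, gm l.2)

def itr (f : ℕ → ℕ) : ℕ → ℕ → ℕ
  | 0, m => m
  | k + 1, m => force (f m) (itr f k)

theorem itr_eq (f : ℕ → ℕ) (k m : ℕ) : itr f k m = f^[k] m := by
  induction k generalizing m with
  | zero => rfl
  | succ k ih => rw [itr, force_eq, ih]; rfl

theorem gam_iter (k : ℕ) (l : ℕ × ℕ) : gam^[k] l = (ng^[k] l.1, gm^[k] l.2) := by
  induction k generalizing l with
  | zero => rfl
  | succ k ih => rw [Function.iterate_succ_apply, ih]; rfl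

theorem chkTen : allBelow (fun m => (Nat.beq (itr ng 10 m) m && Nat.beq (itr gm 10 m) m) && (Nat.beq m 0 ||
    allBelow (fun k => !(Nat.beq (itr gm k m) 0) && (Nat.beq k 0 || !(Nat.beq (itr gm k m) m))) 10)) 81 = true := by
  decide +kernel

theorem gam_ten {l : ℕ × ℕ} (h1 : l.1 < 81) (h2 : l.2 < 81) : gam^[10] l = l := by
  have e1 := allBelow_spec _ _ chkTen _ h1
  have e2 := allBelow_spec _ _ chkTen _ h2
  simp only [Bool.and_eq_true, Nat.beq_eq, itr_eq] at e1 e2
  rw [gam_iter, e1.1.1, e2.1.2]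

theorem gam_free {l : ℕ × ℕ} (h2 : l.2 < 81) (h0 : l.2 ≠ 0) {k : ℕ} (hk : k < 10) :
    (gam^[k] l).2 ≠ 0 ∧ (gam^[k] l = l → k = 0) := by
  have e := allBelow_spec _ _ chkTen _ h2
  simp only [Bool.and_eq_true, Bool.or_eq_true, Nat.beq_eq] at e
  have e' := allBelow_spec _ _ (e.2.resolve_left h0) k hk
  simp only [Bool.and_eq_true, Bool.or_eq_true, Nat.beq_eq, Bool.not_eq_true', itr_eq] at e'
  rw [gam_iter]
  refine ⟨fun h => ?_, fun h => e'.2.resolve_right fun h' => ?_⟩
  · have h' := e'.1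
    rw [show gm^[k] l.2 = 0 from h] at h'
    exact Bool.noConfusion h'
  · rw [show gm^[k] l.2 = l.2 from congrArg Prod.snd h, Nat.beq_refl] at h'
    exact Bool.noConfusion h'

theorem gam_shift {l l' : ℕ × ℕ} (h1 : l'.1 < 81) (h2 : l'.2 < 81) (g1 : l.1 < 81) (g2 : l.2 < 81) {i k : ℕ}
    (hk : k < 10) (h : gam^[i] l = gam^[k] l') : l' = gam^[(10 - k + i) % 10] l := by
  have p : Function.IsPeriodicPt gam 10 l := gam_ten g1 g2
  rw [p.iterate_mod_apply, Function.iterate_add_apply, h, ← Function.iterate_add_apply,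
    show 10 - k + k = 10 by omega, gam_ten h1 h2]

/-- `(d', m')` is one of the first `k` iterates -/
def gi : ℕ → ℕ → ℕ → ℕ → ℕ → Bool
  | 0, _, _, _, _ => false
  | k + 1, d, m, d', m' => (Nat.beq d d' && Nat.beq m m') ||
    force (ng d) fun a => force (gm m) fun b => gi k a b d' m'

theorem gi_of {k i d m d' m' : ℕ} (hi : i < k) (h : gam^[i] (d, m) = (d', m')) : gi k d m d' m' = true := by
  induction k generalizing i d m with
  | zero => exact absurd hi (Nat.not_lt_zero _)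
  | succ k ih =>
    rw [gi, force_eq, force_eq, Bool.or_eq_true]
    cases i with
    | zero =>
      obtain ⟨rfl, rfl⟩ := Prod.mk.inj h
      exact Or.inl (by rw [Nat.beq_refl, Nat.beq_refl]; rfl)
    | succ i => exact Or.inr (ih (by omega) h)

/-- the labels of the two six-dimensional modules -/
def Sv (j : ℕ) : List ℕ := bif Nat.beq j 0 then [2189, 4428, 2250, 4389, 2194, 4375, 2214, 4419, 2208, 4379] else
  [3578, 6191, 3637, 6222, 3608, 6181, 3622, 6194, 3615, 6232]

theorem chkSv : (D9.all fun d => allBelow (fun m => Nat.beq m 0 || (!(allBelow (fun i =>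
    force (act d (4 :: List.replicate i 3) m) fun c => Nat.beq c 0 || gi 10 d m d c) 5) ||
      ((Sv 0).any (Nat.beq (81 * d + m)) || (Sv 1).any (Nat.beq (81 * d + m))))) 81) = true := by decide +kernel

theorem mem_Sv {d m : ℕ} (hd : d ∈ D9) (hm : m < 81) (h0 : m ≠ 0) (h : ∀ i < 5, act d (4 :: List.replicate i 3) m ≠ 0 →
    ∃ k < 10, (d, act d (4 :: List.replicate i 3) m) = gam^[k] (d, m)) : ∃ j < 2, 81 * d + m ∈ Sv j := by
  have e := allBelow_spec _ _ (List.all_eq_true.1 chkSv d hd) m hm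
  have k : allBelow (fun i => force (act d (4 :: List.replicate i 3) m) fun c => Nat.beq c 0 || gi 10 d m d c) 5
      = true := by
    have k' : ∀ i < 5, (force (act d (4 :: List.replicate i 3) m) fun c => Nat.beq c 0 || gi 10 d m d c) = true :=
      fun i hi => by
        rw [force_eq, Bool.or_eq_true, Nat.beq_eq]
        refine (em _).imp_right fun h1 => ?_
        obtain ⟨k, hk, e⟩ := h i hi h1
        exact gi_of hk e.symm
    simp only [allBelow, k' 0 (by omega), k' 1 (by omega), k' 2 (by omega), k' 3 (by omega), k' 4 (by omega),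
      Bool.and_self]
  rw [k] at e
  simp only [Bool.or_eq_true, Nat.beq_eq, Bool.not_true, List.any_eq_true] at e
  rcases e with e | e | ⟨a, ha, e⟩ | ⟨a, ha, e⟩
  · exact absurd e h0
  · exact Bool.noConfusion e
  · exact ⟨0, by omega, e ▸ ha⟩
  · exact ⟨1, by omega, e ▸ ha⟩

def gv (j : ℕ) : ℕ := bif Nat.beq j 0 then 27 else 30
def uv (j : ℕ) : ℕ := bif Nat.beq j 0 then 28 else 3
def wq (j : ℕ) : List ℕ := bif Nat.beq j 0 then [3, 3, 3, 4] else [4]

theorem chkSm : ∀ j < 2, ∀ n ∈ Sv j, 81 * ng (n / 81) + gm (n % 81) ∈ Sv j ∧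
    s5 (fun m => 5 * nz (ip (gv j) m % 3)) (n % 81) = s5 (fun m => 2 * nz m) (n % 81) ∧
    s5 (fun m => 5 * nz (ip 63 m % 3)) (n % 81) = s5 (fun m => 3 * nz m) (n % 81) ∧
    ip (uv j) (act (n / 81) (wq j) (n % 81)) % 3 ≠ ip (uv j) (n % 81) % 3 := by decide +kernel

theorem s5_zero (g a b : ℕ) : s5 (fun m => a * nz (ip g m % 3)) 0 = s5 (fun m => b * nz m) 0 := by
  simp [s5_eq, al, cd, ip, nz]

end Cfsg.Agent.TwoF.XL.U43
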